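import Groth.Agent.Lib.KCoh4.Thick
import Groth.Agent.Lib.InjMod.Coprod
import Groth.Agent.Lib.SerreCl8.Main
import Groth.Agent.Lib.ModM1.FibreProd
import Groth.Agent.Lib.CohMop.ExtSupport
import Mathlib.Topology.LocallyFinite

/-!
# Locally finite sums of coherent modules
-/

set_option autoImplicit false
set_option linter.style.haveILetI false
set_option backward.isDefEq.respectTransparency false

universe u

open CategoryTheory CategoryTheory.Limits AlgebraicGeometry TopologicalSpace Opposite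

namespace Groth.Agent.KSwindle

open Groth.Agent Groth.Agent.CohFound

variable {X : Scheme.{u}} {ι : Type u}

/-- The supports form a locally finite family. -/
def LocFin (f : ι → X.Modules) : Prop := LocallyFinite fun i => CohB1.support (f i)

/-- Finite sums of coherent modules are coherent. -/
theorem isCoh_partSum [IsLocallyNoetherian X] (f : ι → X.Modules) (h : ∀ i, Coh.IsCoh (f i)) (S : Finset ι) :
    Coh.IsCoh (InjMod.partSum f S) := by
  classical
  have hq : ∀ T : Finset ι, Coh.IsQCoh (InjMod.partSum f T) := fun T =>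
    SerreCl8.isQCoh_sigma (fun i : T => f i.1) fun i => (h i.1).1
  induction S using Finset.induction_on with
  | empty =>
    have hz : IsZero (InjMod.partSum f (∅ : Finset ι)) := (IsZero.iff_id_eq_zero _).2
      (Sigma.hom_ext _ _ fun i => absurd i.2 (Finset.notMem_empty _))
    exact ⟨M1.isQCoh_isZero hz, M1.isFT_of_finite_sections (M1.isQCoh_isZero hz) fun U hU => by
      haveI : Subsingleton Γ(InjMod.partSum f (∅ : Finset ι), U) := ⟨fun a b => by
        have e : ∀ c : Γ(InjMod.partSum f (∅ : Finset ι), U), c = 0 := fun c =>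
          ConcreteCategory.congr_hom (congrArg (fun φ => Scheme.Modules.Hom.app φ U) ((IsZero.iff_id_eq_zero _).1 hz)) c
        rw [e a, e b]⟩
      infer_instance⟩
  | insert a S ha ih =>
    let p : InjMod.partSum f S ⊞ f a ⟶ InjMod.partSum f (insert a S) := biprod.desc
      (Sigma.desc fun i => Sigma.ι (fun j : (insert a S : Finset ι) => f j.1) ⟨i.1, Finset.mem_insert_of_mem i.2⟩)
      (Sigma.ι (fun j : (insert a S : Finset ι) => f j.1) ⟨a, Finset.mem_insert_self a S⟩)
    haveI : Epi p := ⟨fun {Z} g g' hg => Sigma.hom_ext _ _ fun ⟨i, hi⟩ => by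
      rcases Finset.mem_insert.1 hi with rfl | hi'
      · simpa [p] using congrArg (biprod.inr ≫ ·) hg
      · simpa [p] using congrArg (Sigma.ι (fun j : S => f j.1) ⟨i, hi'⟩ ≫ biprod.inl ≫ ·) hg⟩
    exact ⟨hq _, M1.isFT_of_epi p (M1.isCoh_biprod ih (h a)).2⟩

variable {f : ι → X.Modules}

/-- A stalk element of a locally finite sum comes from finitely many summands, uniformly near a point. -/
theorem LocFin.exists_finset (hf : LocFin f) (x : X) :
    ∃ (U : X.Opens) (S : Finset ι), x ∈ U ∧ ∀ y ∈ U, ∀ a : (∐ f).presheaf.stalk y,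
      a ∈ LinearMap.range (CurveCoh17.stalkLin (InjMod.incPart f S) y) := by
  classical
  obtain ⟨t, ht, hfin⟩ := hf x
  obtain ⟨U, hUt, hUo, hxU⟩ := mem_nhds_iff.1 ht
  refine ⟨⟨U, hUo⟩, hfin.toFinset, hxU, fun y hy a => ?_⟩
  refine (iSup_le fun i => ?_ : _ ≤ LinearMap.range (CurveCoh17.stalkLin (InjMod.incPart f hfin.toFinset) y))
    ((InjMod.iSup_range_stalk_ι f y).symm ▸ Submodule.mem_top (x := a))
  rintro _ ⟨b, rfl⟩
  by_cases hi : i ∈ hfin.toFinset
  · refine ⟨CurveCoh17.stalkLin (Sigma.ι (fun j : hfin.toFinset => f j.1) ⟨i, hi⟩) y b, ?_⟩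
    rw [← InjMod.stalkLin_comp_apply]
    simp [InjMod.incPart]
  · have hy' : y ∉ CohB1.support (f i) := fun h' => hi (hfin.mem_toFinset.2 ⟨y, h', hUt hy⟩)
    rw [(M1.notMem_support_iff _ y).1 hy' b, map_zero]
    exact zero_mem _

/-- Locally finite sums of coherent modules are coherent. -/
theorem isCoh_sigma [IsLocallyNoetherian X] (hf : LocFin f) (h : ∀ i, Coh.IsCoh (f i)) : Coh.IsCoh (∐ f) := by
  refine ⟨SerreCl8.isQCoh_sigma f fun i => (h i).1, ?_⟩
  choose U S hxU hU using hf.exists_finset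
  refine M1.isFT_of_openImmersion_cover (fun x : X => (U x).ι)
    (fun x => ⟨x, ⟨⟨x, hxU x⟩, rfl⟩⟩) fun x => ?_
  let p := InjMod.incPart f (S x)
  haveI : Epi ((Scheme.Modules.restrictFunctor (U x).ι).map p) := by
    refine Preadditive.epi_of_isZero_cokernel _ ?_
    refine IsZero.of_iso (CohMop.isZero_restrict_of_support (U x) fun y hy => ?_)
      (PreservesCokernel.iso (Scheme.Modules.restrictFunctor (U x).ι) p).symm
    refine (M1.notMem_support_iff _ y).2 fun c => ?_
    obtain ⟨a, rfl⟩ := stL_surjective_of_epi (cokernel.π p) y c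
    obtain ⟨b, hb⟩ := hU x y hy a
    have hb' : stL p y b = a := hb
    rw [← hb', ← stL_comp, cokernel.condition, stL_zero]
  exact M1.isFT_of_epi ((Scheme.Modules.restrictFunctor (U x).ι).map p)
    (M1.isFT_restrict (isCoh_partSum f h (S x)).2 _)

/-- Locally finite sums of modules killed by an ideal are killed by it. -/
theorem killed_sigma {X' : Scheme.{u}} [IsLocallyNoetherian X] (i : X' ⟶ X) (hf : LocFin f)
    (h : ∀ j, KCoh4.Killed i (f j)) : KCoh4.Killed i (∐ f) := by
  refine ⟨isCoh_sigma hf fun j => (h j).1, fun U a ha s => M1.section_ext _ _ fun x hx => ?_⟩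
  rw [M1.germ_smul, map_zero]
  have hsum := (InjMod.iSup_range_stalk_ι f x).symm ▸ Submodule.mem_top (x := (∐ f).presheaf.germ U.1 x hx s)
  refine Submodule.iSup_induction _ (motive := fun t => X.presheaf.germ U.1 x hx a • t = 0) hsum
    (fun j t => ?_) (smul_zero _) fun t t' h1 h2 => by rw [smul_add, h1, h2, add_zero]
  rintro ⟨b, rfl⟩
  haveI := (h j).1.1
  obtain ⟨c, m₀, hc, hm⟩ := M1.exists_germ_smul_eq (f j) U.2 hx b
  have h0 : X.presheaf.germ U.1 x hx a • b = 0 := hc.smul_eq_zero.1 (by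
    rw [smul_comm, hm, ← M1.germ_smul, (h j).2 U a ha m₀, map_zero])
  rw [← map_smul, h0, map_zero]

theorem LocFin.of_subset {g : ι → X.Modules} (hf : LocFin f) (h : ∀ i, CohB1.support (g i) ⊆ CohB1.support (f i)) :
    LocFin g := LocallyFinite.subset hf h

/-- A family on pairs lying below two locally finite sequences is locally finite. -/
theorem locFin_pairs {F G : ℕ → X.Modules} (hF : LocFin fun n : ULift.{u} ℕ => F n.down)
    (hG : LocFin fun n : ULift.{u} ℕ => G n.down) (T : ℕ → ℕ → X.Modules)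
    (hT : ∀ m n, CohB1.support (T m n) ⊆ CohB1.support (F m) ∩ CohB1.support (G n)) :
    LocFin fun p : ULift.{u} (ℕ × ℕ) => T p.down.1 p.down.2 := fun x => by
  obtain ⟨s, hs, hsf⟩ := hF x
  obtain ⟨t, ht, htf⟩ := hG x
  refine ⟨s ∩ t, Filter.inter_mem hs ht, (((hsf.image ULift.down).prod (htf.image ULift.down)).image ULift.up).subset ?_⟩
  rintro ⟨m, n⟩ ⟨y, hy, hys, hyt⟩
  exact ⟨(m, n), ⟨⟨⟨m⟩, ⟨y, (hT m n hy).1, hys⟩, rfl⟩, ⟨⟨n⟩, ⟨y, (hT m n hy).2, hyt⟩, rfl⟩⟩, rfl⟩

end Groth.Agent.KSwindle
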