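import Groth.Agent.Lib.KSwindle.Abstract
import Groth.Agent.Lib.KSwindle.LocFin
import Groth.Agent.Lib.IdealMul.PowKill
import Groth.Agent.Lib.CohFound.DevissageModel

/-!
# `K₀` of coherent modules supported on a closed subscheme
-/

set_option autoImplicit false
set_option linter.style.haveILetI false
set_option backward.isDefEq.respectTransparency false
set_option backward.isDefEq.respectTransparency.types false

universe u

open CategoryTheory CategoryTheory.Limits AlgebraicGeometry TopologicalSpace Opposite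

namespace Groth.Agent.KSwindle

open Groth.Agent Groth.Agent.CohFound

variable {X Z : Scheme.{u}} (i : Z ⟶ X)

/-- Coherent modules supported in the image. -/
def Supp : ObjectProperty X.Modules :=
  fun G => Coh.IsCoh G ∧ ∀ x : X, Nontrivial (G.presheaf.stalk x) → x ∈ Set.range ⇑i

theorem supp_iff {G : X.Modules} : Supp i G ↔ Coh.IsCoh G ∧ CohB1.support G ⊆ Set.range ⇑i :=
  and_congr_right fun _ => forall_congr' fun _ => by rw [← not_subsingleton_iff_nontrivial]; rfl

theorem killed_iso {X' : Scheme.{u}} (j : X' ⟶ X) [IsLocallyNoetherian X] {F G : X.Modules} (e : F ≅ G)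
    (h : KCoh4.Killed j F) : KCoh4.Killed j G :=
  KCoh4.killed_of_epi j e.hom ⟨M1.isQCoh_of_isIso e h.1.1, M1.isFT_of_isIso e h.1.2⟩ h

variable [IsLocallyNoetherian X]

/-- A filtration for dévissage: locally finite, with pieces killed by the ideal. -/
structure Good {F : X.Modules} (Φ : Fil F) : Prop where
  coh : ∀ n, Coh.IsCoh (Φ.obj n)
  killed : ∀ n, KCoh4.Killed i (Φ.gr n)
  fin : LocFin fun n : ULift.{u} ℕ => Φ.obj n.down

theorem Good.gr_fin {F : X.Modules} {Φ : Fil F} (h : Good i Φ) :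
    LocFin fun n : ULift.{u} ℕ => Φ.gr n.down :=
  h.fin.of_subset fun n => support_subset_of_epi (cokernel.π (Φ.le n.down))

theorem Good.killed_sum {F : X.Modules} {Φ : Fil F} (h : Good i Φ) :
    KCoh4.Killed i (sum1.{u} Φ.gr) :=
  killed_sigma i h.gr_fin fun n => h.killed n.down

instance : AB4OfSize.{u} X.Modules :=
  haveI := Abelian.hasFiniteBiproducts (C := X.Modules)
  AB4.of_AB5 X.Modules

variable [IsClosedImmersion i]

theorem Good.unique {F : X.Modules} {Φ Ψ : Fil F} (hΦ : Good i Φ) (hΨ : Good i Ψ) (hF : Coh.IsCoh F) :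
    KZero.clSub (KCoh4.Killed i) (sum1.{u} Φ.gr) = KZero.clSub (KCoh4.Killed i) (sum1.{u} Ψ.gr) := by
  refine Fil.cl_gr_eq.{u} Φ Ψ (P := fun M : X.Modules => Coh.IsCoh M) (fun e h => killed_iso i e h)
    (fun f h1 h2 => M1.isCoh_cokernel h1.1 h2 f) (fun f _ h1 h2 => KCoh4.killed_of_mono i f h1 h2)
    (fun f _ h1 h2 => KCoh4.killed_of_epi i f h1 h2) (fun _ h => h.1)
    (fun m n => M1.isCoh_fibreProd (hΦ.coh m) (hΨ.coh n) hF.1 _ _) hΦ.killed hΨ.killed ?_ hΦ.killed_sum hΨ.killed_sum
  intro T hT hdom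
  refine killed_sigma i (locFin_pairs hΦ.fin hΨ.fin T fun m n x hx => ?_) fun p => hT _ _
  obtain ⟨W, a, b, p, ha, hb, hp⟩ := hdom m n
  exact ⟨support_subset_of_mono a (support_subset_of_epi p hx), support_subset_of_mono b (support_subset_of_epi p hx)⟩

/-- The steps of the adic filtration. -/
noncomputable def adicStep (F : X.Modules) : ℕ → Σ N : X.Modules, (N ⟶ F)
  | 0 => ⟨F, 𝟙 F⟩
  | n + 1 => ⟨(Dual3.idealMul i.ker).obj (adicStep F n).1, Dual3.idealMulι i.ker _ ≫ (adicStep F n).2⟩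

theorem mono_adicStep (F : X.Modules) : ∀ n, Mono (adicStep i F n).2
  | 0 => inferInstanceAs (Mono (𝟙 F))
  | n + 1 => by
    haveI := mono_adicStep F n
    haveI : Mono (Dual3.idealMulι i.ker (adicStep i F n).1) := inferInstanceAs (Mono (kernel.ι _))
    exact mono_comp _ _

/-- The adic filtration. -/
noncomputable def adic (F : X.Modules) : Fil F where
  obj n := (adicStep i F n).1
  ι n := (adicStep i F n).2
  le n := Dual3.idealMulι i.ker _
  fac _ := rfl
  mono := mono_adicStep i F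
  iso := inferInstanceAs (IsIso (𝟙 F))

theorem isCoh_adic {F : X.Modules} (hF : Coh.IsCoh F) : ∀ n, Coh.IsCoh ((adic i F).obj n)
  | 0 => hF
  | n + 1 => M1.isCoh_kernel (isCoh_adic hF n)
      (M1.isQCoh_push i.ker.subschemeι (M1.isQCoh_pullback i.ker.subschemeι (isCoh_adic hF n).1)) _

theorem good_adic {F : X.Modules} (hF : Supp i F) : Good i (adic i F) := by
  haveI := hF.1.1
  have hcoh := isCoh_adic i hF.1
  refine ⟨hcoh, fun n => ?_, fun x => ?_⟩
  · let N := (adic i F).obj n
    let η := (Scheme.Modules.pullbackPushforwardAdjunction i.ker.subschemeι).unit.app N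
    have hk : KCoh4.Killed i ((Scheme.Modules.pushforward i.ker.subschemeι).obj
        ((Scheme.Modules.pullback i.ker.subschemeι).obj N)) := by
      obtain ⟨h1, h2⟩ := KCoh4.killed_push i.ker.subschemeι (M1.isCoh_pullback i.ker.subschemeι (hcoh n))
      exact ⟨h1, fun U a ha => h2 U a (by rwa [Scheme.IdealSheafData.ker_subschemeι])⟩
    exact KCoh4.killed_of_mono i (Abelian.factorThruCoimage η)
      (M1.isCoh_cokernel (M1.isCoh_kernel (hcoh n) hk.1.1 η).1 (hcoh n) _) hk
  · obtain ⟨U, hU, hxU, -⟩ := exists_isAffineOpen_mem_and_subset (show x ∈ (⊤ : X.Opens) from trivial)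
    let V : X.Opens := ⟨(i.ker.support : Set X)ᶜ, i.ker.support.isClosed.isOpen_compl⟩
    have hsupp : CohB1.support F ⊆ (i.ker.support : Set X) := fun y hy => by
      rw [Scheme.Hom.support_ker]
      exact subset_closure (((supp_iff i).1 hF).2 hy)
    obtain ⟨k, hk⟩ := IdealMulL.exists_pow_le_annihilator i.ker hF.1 (U := V) rfl (𝟙 F)
      ((CohMop.isZero_restrict_of_support V fun y hy h => hy (hsupp h)).eq_of_src _ _) ⟨U, hU⟩
    have hmem : ∀ n (s : Γ((adic i F).obj n, U)), ((adic i F).ι n).app U s ∈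
        i.ker.ideal ⟨U, hU⟩ ^ n • (⊤ : Submodule Γ(X, U) Γ(F, U)) := by
      intro n
      induction n with
      | zero => intro s; rw [pow_zero, Ideal.one_eq_top, Submodule.top_smul]; trivial
      | succ n ih =>
        intro s
        haveI := (hcoh n).1
        have h1 := (IdealMulL.mem_idl ((adic i F).obj n) i.ker ⟨U, hU⟩ _).1 ⟨s, rfl⟩
        rw [← (adic i F).fac n, M1.comp_app_apply, pow_succ']
        rw [Submodule.mul_smul]
        refine Submodule.smul_induction_on h1 (fun a ha m _ => ?_) fun a b ha hb => ?_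
        · rw [Scheme.Modules.Hom.app_smul]
          exact Submodule.smul_mem_smul ha (ih m)
        · rw [map_add]; exact Submodule.add_mem _ ha hb
    have hzero : ∀ n, k ≤ n → ∀ s : Γ((adic i F).obj n, U), s = 0 := by
      intro n hn s
      haveI := (adic i F).mono n
      refine M1.app_injective ((adic i F).ι n) U ?_
      rw [map_zero]
      refine Submodule.smul_induction_on (hmem n s) (fun a ha m _ => ?_) fun a b ha hb => by rw [ha, hb, add_zero]
      exact hk a (Ideal.pow_le_pow_right hn ha) m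
    refine ⟨U, U.2.mem_nhds hxU, ((Set.finite_lt_nat k).image ULift.up).subset ?_⟩
    rintro ⟨n⟩ ⟨y, hy, hyU⟩
    refine ⟨n, Set.mem_ofPred_eq.mpr (Nat.lt_of_not_le (show ¬ k ≤ n from fun hn => ?_)), rfl⟩
    refine hy (not_not.1 ((M1.notMem_support_iff _ y).2 fun b => ?_))
    haveI := (hcoh n).1
    obtain ⟨c, m₀, hc, hm⟩ := M1.exists_germ_smul_eq ((adic i F).obj n) hU hyU b
    rw [hzero n hn m₀, map_zero] at hm
    exact hc.smul_eq_zero.1 hm

theorem good_pre {S : ShortComplex X.Modules} (hS : S.ShortExact) [Mono S.f] [Epi S.g]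
    (h1 : Coh.IsCoh S.X₁) (h2 : Coh.IsCoh S.X₂) {Φ : Fil S.X₂} (hΦ : Good i Φ) :
    Good i (Φ.pre) := by
  have hc : ∀ n, Coh.IsCoh ((Φ.pre).obj n) := fun n => M1.isCoh_fibreProd h1 (hΦ.coh n) h2.1 _ _
  refine ⟨hc, fun n => ?_, hΦ.fin.of_subset fun n =>
    support_subset_of_mono (pullback.snd S.f (Φ.ι n.down) : (Φ.pre).obj n.down ⟶ Φ.obj n.down)⟩
  obtain ⟨f, g, w, h⟩ := Φ.exists_shortExact_gr hS n
  haveI := h.mono_f
  exact KCoh4.killed_of_mono i f (M1.isCoh_cokernel (hc _).1 (hc _) _) (hΦ.killed n)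

theorem good_img {S : ShortComplex X.Modules} (hS : S.ShortExact) [Mono S.f] [Epi S.g]
    (h3 : Coh.IsCoh S.X₃) {Φ : Fil S.X₂} (hΦ : Good i Φ) :
    Good i (Φ.img) := by
  have hc : ∀ n, Coh.IsCoh ((Φ.img).obj n) := fun n =>
    M1.isCoh_kernel h3 (M1.isCoh_cokernel (hΦ.coh n).1 h3 _).1 _
  refine ⟨hc, fun n => ?_, hΦ.fin.of_subset fun n =>
    support_subset_of_epi (Abelian.factorThruImage (Φ.ι n.down ≫ S.g) : Φ.obj n.down ⟶ (Φ.img).obj n.down)⟩
  obtain ⟨f, g, w, h⟩ := Φ.exists_shortExact_gr hS n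
  haveI := h.epi_g
  exact KCoh4.killed_of_epi i g (M1.isCoh_cokernel (hc _).1 (hc _) _) (hΦ.killed n)

/-- The class of the associated graded module. -/
noncomputable def grCl (F : Subtype (Supp i)) : KZero.K0sub (KCoh4.Killed i) :=
  KZero.clSub (KCoh4.Killed i) (sum1.{u} (adic i F.1).gr)

theorem grCl_add (S : ShortComplex X.Modules) (h₁ : Supp i S.X₁) (h₂ : Supp i S.X₂) (h₃ : Supp i S.X₃)
    (hS : S.ShortExact) : grCl i ⟨S.X₂, h₂⟩ = grCl i ⟨S.X₁, h₁⟩ + grCl i ⟨S.X₃, h₃⟩ := by
  haveI := hS.mono_f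
  haveI := hS.epi_g
  have hΦ := good_adic i h₂
  have hA := good_pre i hS h₁.1 h₂.1 hΦ
  have hC := good_img i hS h₃.1 hΦ
  unfold grCl
  rw [Good.unique i (good_adic i h₁) hA h₁.1, Good.unique i (good_adic i h₃) hC h₃.1]
  choose f g w h using fun n : ULift.{u} ℕ => (adic i S.X₂).exists_shortExact_gr hS n.down
  exact K0Cat.clSub_ses (P := KCoh4.Killed i) _ (shortExact_sigma.{u} (fun n => ShortComplex.mk (f n) (g n) (w n)) h)
    hA.killed_sum hΦ.killed_sum hC.killed_sum

/-- Pushing forward coherent modules. -/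
noncomputable def pushHom : KZero.K0sub (fun F : Z.Modules => Coh.IsCoh F) →+ KZero.K0sub (Supp i) :=
  K0Cat.liftSub (fun M => KZero.clSub (Supp i) ((Coh.push i).obj M.1)) fun S h₁ h₂ h₃ hS => by
    have hsupp : ∀ M : Z.Modules, Coh.IsCoh M → Supp i ((Coh.push i).obj M) := fun M hM =>
      (supp_iff i).2 ⟨CohFound.isCoh_push_closedImm i hM, CohFound.support_push_subset i M⟩
    exact K0Cat.clSub_ses (P := Supp i) (S.map (Coh.push i)) (hS.map_of_exact (Scheme.Modules.pushforward i))
      (hsupp _ h₁) (hsupp _ h₂) (hsupp _ h₃)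

theorem supp_of_killed {F : X.Modules} (hF : KCoh4.Killed i F) : Supp i F := by
  haveI := M1.isIso_unit_of_ker_smul i F hF.1.1 hF.2
  refine (supp_iff i).2 ⟨hF.1, ?_⟩
  exact (support_subset_of_mono ((Scheme.Modules.pullbackPushforwardAdjunction i).unit.app F)).trans
    (CohFound.support_push_subset i _)

/-- Pulling back modules killed by the ideal. -/
noncomputable def pullHom : KZero.K0sub (KCoh4.Killed i) →+ KZero.K0sub (fun F : Z.Modules => Coh.IsCoh F) :=
  K0Cat.liftSub (fun M => KCoh4.pullCl i M.1) fun S h₁ h₂ h₃ hS =>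
    KCoh4.kc_ses (KCoh4.shortExact_pull i hS h₁ h₂ h₃) (M1.isCoh_pullback i h₁.1) (M1.isCoh_pullback i h₂.1)
      (M1.isCoh_pullback i h₃.1)

/-- The inverse of push forward. -/
noncomputable def invHom : KZero.K0sub (Supp i) →+ KZero.K0sub (fun F : Z.Modules => Coh.IsCoh F) :=
  (pullHom i).comp (K0Cat.liftSub (grCl i) (grCl_add i))

theorem pushHom_clSub {M : Z.Modules} (hM : Coh.IsCoh M) :
    pushHom i (KZero.clSub (fun F : Z.Modules => Coh.IsCoh F) M) = KZero.clSub (Supp i) ((Coh.push i).obj M) :=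
  K0Cat.liftSub_clSub _ _ hM

theorem invHom_clSub {F : X.Modules} (hF : Supp i F) :
    invHom i (KZero.clSub (Supp i) F) = KCoh4.pullCl i (sum1.{u} (adic i F).gr) := by
  show pullHom i (K0Cat.liftSub (grCl i) (grCl_add i) (KZero.clSub (Supp i) F)) = _
  rw [K0Cat.liftSub_clSub _ _ hF]
  exact K0Cat.liftSub_clSub _ _ (good_adic i hF).killed_sum

/-- The trivial filtration. -/
noncomputable def triv (F : X.Modules) : Fil F where
  obj n := match n with
    | 0 => F
    | _ + 1 => kernel (𝟙 F)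
  ι n := match n with
    | 0 => 𝟙 F
    | _ + 1 => kernel.ι (𝟙 F)
  le n := match n with
    | 0 => kernel.ι (𝟙 F)
    | _ + 1 => 𝟙 _
  fac n := match n with
    | 0 => Category.comp_id _
    | _ + 1 => Category.id_comp _
  mono n := match n with
    | 0 => inferInstanceAs (Mono (𝟙 F))
    | _ + 1 => inferInstanceAs (Mono (kernel.ι (𝟙 F)))
  iso := inferInstanceAs (IsIso (𝟙 F))

theorem good_triv {F : X.Modules} (hF : KCoh4.Killed i F) : Good i (triv F) := by
  have hc : ∀ n, Coh.IsCoh ((triv F).obj n) := fun n => match n with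
    | 0 => hF.1
    | _ + 1 => M1.isCoh_kernel hF.1 hF.1.1 _
  refine ⟨hc, fun n => ?_, fun x => ⟨Set.univ, Filter.univ_mem, (Set.finite_singleton (⟨0⟩ : ULift.{u} ℕ)).subset ?_⟩⟩
  · cases n with
    | zero =>
      haveI : Epi (cokernel.π ((triv F).le 0)) := inferInstance
      exact KCoh4.killed_of_epi i (cokernel.π ((triv F).le 0)) (M1.isCoh_cokernel (hc 1).1 (hc 0) _) hF
    | succ n =>
      exact KCoh4.killed_of_epi i (cokernel.π ((triv F).le (n + 1))) (M1.isCoh_cokernel (hc _).1 (hc _) _)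
        (KCoh4.killed_of_mono i (kernel.ι (𝟙 F)) (hc (n + 1)) hF)
  · rintro ⟨n⟩ ⟨y, hy, -⟩
    match n with
    | 0 => rfl
    | n + 1 => exact (hy (not_not.1 ((M1.notMem_support_iff _ y).2 fun a =>
      ((IsZero.iff_id_eq_zero _).1 (isZero_kernel_of_mono (𝟙 F)) |> fun e =>
        ((stL_id _ y a).symm.trans (congrArg (fun φ => stL φ y a) e)).trans (stL_zero y a))))).elim

/-- The graded sum of the trivial filtration. -/
noncomputable def sumTrivIso (F : X.Modules) : sum1.{u} (triv F).gr ≅ F := by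
  have hz : ((triv F).le 0 : kernel (𝟙 F) ⟶ F) = 0 := (isZero_kernel_of_mono (𝟙 F)).eq_of_src _ _
  let d : cokernel ((triv F).le 0 : kernel (𝟙 F) ⟶ F) ⟶ F := cokernel.desc _ (𝟙 F) (by rw [hz, zero_comp])
  have hd : cokernel.π ((triv F).le 0 : kernel (𝟙 F) ⟶ F) ≫ d = 𝟙 F := cokernel.π_desc _ _ _
  let e : (triv F).gr 0 ≅ F :=
    { hom := d
      inv := cokernel.π ((triv F).le 0 : kernel (𝟙 F) ⟶ F)
      hom_inv_id := by
        apply coequalizer.hom_ext
        show cokernel.π ((triv F).le 0 : kernel (𝟙 F) ⟶ F) ≫ d ≫ _ = _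
        rw [reassoc_of% hd]
        exact (Category.comp_id _).symm
      inv_hom_id := hd }
  refine
    { hom := Sigma.desc fun n => match n with
        | ⟨0⟩ => e.hom
        | ⟨_ + 1⟩ => 0
      inv := e.inv ≫ Sigma.ι (fun n : ULift.{u} ℕ => (triv F).gr n.down) ⟨0⟩
      hom_inv_id := Sigma.hom_ext _ _ fun ⟨n⟩ => ?_
      inv_hom_id := by simp }
  match n with
  | 0 => simp
  | n + 1 =>
    refine IsZero.eq_of_src ?_ _ _
    exact IsZero.of_epi (cokernel.π ((triv F).le (n + 1))) (isZero_kernel_of_mono (𝟙 F))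

theorem invHom_pushHom {M : Z.Modules} (hM : Coh.IsCoh M) :
    invHom i (pushHom i (KZero.clSub (fun F : Z.Modules => Coh.IsCoh F) M)) =
      KZero.clSub (fun F : Z.Modules => Coh.IsCoh F) M := by
  have hk : KCoh4.Killed i ((Coh.push i).obj M) := KCoh4.killed_push i hM
  rw [pushHom_clSub i hM, invHom_clSub i (supp_of_killed i hk)]
  have h1 := congrArg (pullHom i) (Good.unique i (good_adic i (supp_of_killed i hk)) (good_triv i hk) hk.1)
  have hcl : ∀ {A : X.Modules}, KCoh4.Killed i A → pullHom i (KZero.clSub (KCoh4.Killed i) A) = KCoh4.pullCl i A :=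
    fun h => K0Cat.liftSub_clSub _ _ h
  rw [hcl (good_adic i (supp_of_killed i hk)).killed_sum, hcl (good_triv i hk).killed_sum] at h1
  rw [h1]
  let e := (Scheme.Modules.pullback i).mapIso (sumTrivIso ((Coh.push i).obj M))
  haveI := isIso_counit_closedImm i M hM.1
  let e' := e ≪≫ asIso ((Scheme.Modules.pullbackPushforwardAdjunction i).counit.app M)
  have hP : Coh.IsCoh ((Scheme.Modules.pullback i).obj (sum1.{u} (triv ((Coh.push i).obj M)).gr)) :=
    M1.isCoh_pullback i (good_triv i hk).killed_sum.1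
  haveI : IsLocallyNoetherian Z := LocallyOfFiniteType.isLocallyNoetherian i
  exact clSub_iso e' hP hM (M1.isCoh_cokernel hP.1 hM _)

theorem pushHom_invHom {F : X.Modules} (hF : Supp i F) :
    pushHom i (invHom i (KZero.clSub (Supp i) F)) = KZero.clSub (Supp i) F := by
  have hG := good_adic i hF
  have hS : ∀ {ι : Type u} {f : ι → X.Modules}, LocFin f → (∀ j, Supp i (f j)) → Supp i (∐ f) := fun {ι f} hf h => by
    refine (supp_iff i).2 ⟨isCoh_sigma hf fun j => (h j).1, fun y hy => ?_⟩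
    by_contra hy'
    refine hy (not_not.1 ((M1.notMem_support_iff _ y).2 fun a => ?_))
    refine Submodule.iSup_induction _ (motive := fun t => t = 0)
      ((InjMod.iSup_range_stalk_ι f y).symm ▸ Submodule.mem_top (x := a)) (fun j t => ?_) rfl
      fun t t' h1 h2 => by rw [h1, h2, add_zero]
    rintro ⟨b, rfl⟩
    rw [(M1.notMem_support_iff _ y).1 (fun h' => hy' (((supp_iff i).1 (h j)).2 h')) b, map_zero]
  have hobj : ∀ n, Supp i ((adic i F).obj n) := fun n => by
    haveI := (adic i F).mono n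
    exact (supp_iff i).2 ⟨hG.coh n, (support_subset_of_mono ((adic i F).ι n)).trans ((supp_iff i).1 hF).2⟩
  have hsum := hG.killed_sum
  rw [invHom_clSub i hF]
  refine (pushHom_clSub i (M1.isCoh_pullback i hsum.1)).trans ?_
  haveI := M1.isIso_unit_of_ker_smul i _ hsum.1.1 hsum.2
  have hp : Supp i ((Coh.push i).obj ((Scheme.Modules.pullback i).obj (sum1.{u} (adic i F).gr))) :=
    supp_of_killed i (KCoh4.killed_push i (M1.isCoh_pullback i hsum.1))
  let e := asIso ((Scheme.Modules.pullbackPushforwardAdjunction i).unit.app (sum1.{u} (adic i F).gr))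
  refine (clSub_iso e (supp_of_killed i hsum) hp ?_).symm.trans ?_
  · exact supp_of_killed i (KCoh4.killed_of_epi i (cokernel.π e.hom)
      (M1.isCoh_cokernel hsum.1.1 hp.1 _) (KCoh4.killed_push i (M1.isCoh_pullback i hsum.1)))
  · refine (cl_swindle_seq.{u} (Q := Supp i) (adic i F).obj (adic i F).gr (fun n =>
      ⟨(adic i F).le n, cokernel.π _, cokernel.condition _, { exact := ShortComplex.exact_cokernel _ }⟩)
      (hS hG.fin fun n => hobj n.down) (hS ?_ fun n => hobj (n.down + 1)) (supp_of_killed i hsum) (hobj 0)).symm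
    exact hG.fin.of_subset (g := fun n : ULift.{u} ℕ => (adic i F).obj (n.down + 1))
      fun n => support_subset_of_mono ((adic i F).le n.down)

end Groth.Agent.KSwindle
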