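import Groth.Agent.Lib.K0Cat.Basic
import Mathlib.CategoryTheory.Abelian.GrothendieckAxioms.Colim
import Mathlib.CategoryTheory.Abelian.CommSq

/-!
# Classes of countable filtrations in `K₀`

Two filtrations of an object have the same associated graded class, provided the sums over their common
refinement exist in the class of objects considered (Schreier refinement and a swindle).
-/

set_option autoImplicit false
set_option linter.style.haveILetI false

universe w v u

open CategoryTheory CategoryTheory.Limits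

namespace Groth.Agent.KSwindle

variable {A : Type u} [Category.{v} A] [Abelian A]

/-- The cokernels in a cartesian square of monomorphisms. -/
theorem shortExact_cokernel_square {X₁ X₂ X₃ X₄ E : A} {t : X₁ ⟶ X₂} {l : X₁ ⟶ X₃} {r : X₂ ⟶ X₄}
    {b : X₃ ⟶ X₄} (sq : IsPullback t l r b) (π : X₄ ⟶ E) [Epi π] (hr : r ≫ π = 0) (hb : b ≫ π = 0)
    (hu : ∀ {T : A} (k : X₄ ⟶ T), r ≫ k = 0 → b ≫ k = 0 → ∃ e : E ⟶ T, π ≫ e = k) :
    (ShortComplex.mk (cokernel.map _ _ _ _ sq.w) (cokernel.desc b π hb)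
      (by rw [← cancel_epi (cokernel.π t)]; simp [hr])).ShortExact := by
  haveI := Abelian.mono_cokernel_map_of_isPullback sq
  haveI : Epi (cokernel.π b ≫ cokernel.desc b π hb) := by rw [cokernel.π_desc]; infer_instance
  haveI : Epi (cokernel.desc b π hb) := epi_of_epi (cokernel.π b) _
  refine { exact := ShortComplex.exact_of_g_is_cokernel _ (CokernelCofork.IsColimit.ofπ' _ _ fun {T} k hk => ?_) }
  have h1 : r ≫ cokernel.π b ≫ k = 0 := by
    have h2 := congrArg (cokernel.π t ≫ ·) hk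
    simpa using h2
  have he := hu (cokernel.π b ≫ k) h1 (cokernel.condition_assoc _ _ |>.trans zero_comp)
  refine ⟨he.choose, ?_⟩
  rw [← cancel_epi (cokernel.π b)]
  dsimp
  rw [cokernel.π_desc_assoc]
  exact he.choose_spec

/-- Isomorphic objects have the same class. -/
theorem clSub_iso {Q : ObjectProperty A} {X Y : A} (i : X ≅ Y) (hX : Q X) (hY : Q Y)
    (hzero : Q (cokernel i.hom)) : KZero.clSub Q X = KZero.clSub Q Y := by
  have hz : IsZero (cokernel i.hom) := isZero_cokernel_of_epi i.hom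
  have := K0Cat.clSub_ses (P := Q) (ShortComplex.mk i.hom (cokernel.π i.hom) (cokernel.condition _))
    { exact := ShortComplex.exact_cokernel _ } hX hY hzero
  rw [K0Cat.clSub_of_isZero hz hzero, add_zero] at this
  exact this.symm

section Sigma

/-- Sums of short exact sequences. -/
theorem shortExact_sigma {ι : Type w} [HasCoproducts.{w} A] [AB4OfSize.{w} A] (S : ι → ShortComplex A)
    (hS : ∀ i, (S i).ShortExact) :
    (ShortComplex.mk (Limits.Sigma.map fun i => (S i).f) (Limits.Sigma.map fun i => (S i).g)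
      (Sigma.hom_ext _ _ fun i => by simp)).ShortExact := by
  haveI : ∀ i, Epi (S i).g := fun i => (hS i).epi_g
  haveI : ∀ i, Mono (S i).f := fun i => (hS i).mono_f
  haveI : Epi (Limits.Sigma.map fun i => (S i).g) := ⟨fun a b h => Sigma.hom_ext _ _ fun i => by
    rw [← cancel_epi (S i).g]
    simpa using congrArg (Sigma.ι (fun i => (S i).X₂) i ≫ ·) h⟩
  haveI : Mono (Limits.Sigma.map fun i => (S i).f) := inferInstance
  refine { exact := ShortComplex.exact_of_g_is_cokernel _ (CokernelCofork.IsColimit.ofπ' _ _ fun {T} k hk => ?_) }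
  refine ⟨Sigma.desc fun i => (hS i).exact.desc (Sigma.ι (fun i => (S i).X₂) i ≫ k) ?_, Sigma.hom_ext _ _ fun i => ?_⟩
  · simpa using congrArg (Sigma.ι (fun i => (S i).X₁) i ≫ ·) hk
  · simp

variable [HasCoproducts.{w} A]

/-- The sum of a sequence. -/
noncomputable abbrev sum1 (g : ℕ → A) : A := ∐ fun n : ULift.{w} ℕ => g n.down

/-- The sum of a double sequence. -/
noncomputable abbrev sum2 (g : ℕ → ℕ → A) : A := ∐ fun p : ULift.{w} (ℕ × ℕ) => g p.down.1 p.down.2

/-- Splitting off the first row. -/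
theorem exists_shortExact_shift (g : ℕ → ℕ → A) :
    ∃ (a : sum2.{w} (fun m n => g (m + 1) n) ⟶ sum2.{w} g) (b : sum2.{w} g ⟶ sum1.{w} (g 0)) (w : a ≫ b = 0),
      (ShortComplex.mk a b w).ShortExact := by
  let a : sum2.{w} (fun m n => g (m + 1) n) ⟶ sum2.{w} g :=
    Sigma.desc fun p => Sigma.ι (fun p : ULift.{w} (ℕ × ℕ) => g p.down.1 p.down.2) ⟨(p.down.1 + 1, p.down.2)⟩
  let b : sum2.{w} g ⟶ sum1.{w} (g 0) := Sigma.desc fun p => match p with
    | ⟨(0, n)⟩ => Sigma.ι (fun n : ULift.{w} ℕ => g 0 n.down) ⟨n⟩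
    | ⟨(_ + 1, _)⟩ => 0
  let r : sum2.{w} g ⟶ sum2.{w} (fun m n => g (m + 1) n) := Sigma.desc fun p => match p with
    | ⟨(0, _)⟩ => 0
    | ⟨(m + 1, n)⟩ => Sigma.ι (fun p : ULift.{w} (ℕ × ℕ) => g (p.down.1 + 1) p.down.2) ⟨(m, n)⟩
  let s : sum1.{w} (g 0) ⟶ sum2.{w} g :=
    Sigma.desc fun n => Sigma.ι (fun p : ULift.{w} (ℕ × ℕ) => g p.down.1 p.down.2) ⟨(0, n.down)⟩
  have w : a ≫ b = 0 := Sigma.hom_ext _ _ fun ⟨m, n⟩ => by simp [a, b]
  refine ⟨a, b, w, (ShortComplex.Splitting.mk r s ?_ ?_ ?_).shortExact⟩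
  · exact Sigma.hom_ext _ _ fun ⟨m, n⟩ => by simp [a, r]
  · exact Sigma.hom_ext _ _ fun ⟨n⟩ => by simp [s, b]
  · refine Sigma.hom_ext _ _ fun ⟨m, n⟩ => ?_
    cases m <;> simp [a, b, r, s]

variable [AB4OfSize.{w} A] {Q : ObjectProperty A}

/-- The class of the first term is the class of the sum of the successive quotients. -/
theorem cl_swindle_seq (g e : ℕ → A)
    (hse : ∀ n, ∃ (f : g (n + 1) ⟶ g n) (p : g n ⟶ e n) (w : f ≫ p = 0), (ShortComplex.mk f p w).ShortExact)
    (hg : Q (sum1.{w} g)) (hg' : Q (sum1.{w} fun n => g (n + 1))) (he : Q (sum1.{w} e)) (h0 : Q (g 0)) :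
    KZero.clSub Q (g 0) = KZero.clSub Q (sum1.{w} e) := by
  choose f p wfp hS using hse
  let a : sum1.{w} (fun n => g (n + 1)) ⟶ sum1.{w} g :=
    Sigma.desc fun n => Sigma.ι (fun n : ULift.{w} ℕ => g n.down) ⟨n.down + 1⟩
  let b : sum1.{w} g ⟶ g 0 := Sigma.desc fun n => match n with
    | ⟨0⟩ => 𝟙 _
    | ⟨_ + 1⟩ => 0
  let r : sum1.{w} g ⟶ sum1.{w} (fun n => g (n + 1)) := Sigma.desc fun n => match n with
    | ⟨0⟩ => 0
    | ⟨m + 1⟩ => Sigma.ι (fun n : ULift.{w} ℕ => g (n.down + 1)) ⟨m⟩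
  let s : g 0 ⟶ sum1.{w} g := Sigma.ι (fun n : ULift.{w} ℕ => g n.down) ⟨0⟩
  have wab : a ≫ b = 0 := Sigma.hom_ext _ _ fun ⟨n⟩ => by simp [a, b]
  have hab : (ShortComplex.mk a b wab).ShortExact := by
    refine (ShortComplex.Splitting.mk r s ?_ ?_ ?_).shortExact
    · exact Sigma.hom_ext _ _ fun ⟨n⟩ => by simp [a, r]
    · simp [s, b]
    · refine Sigma.hom_ext _ _ fun ⟨n⟩ => ?_
      cases n <;> simp [a, b, r, s]
  have h1 := K0Cat.clSub_ses (P := Q) _ hab hg' hg h0
  have h2 := K0Cat.clSub_ses (P := Q) _ (shortExact_sigma.{w} (fun q : ULift.{w} ℕ =>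
    ShortComplex.mk (f q.down) (p q.down) (wfp q.down)) fun q => hS q.down) hg' hg he
  exact add_left_cancel (h1.symm.trans h2)

/-- The swindle. -/
theorem cl_swindle (g e : ℕ → ℕ → A)
    (hse : ∀ m n, ∃ (f : g (m + 1) n ⟶ g m n) (p : g m n ⟶ e m n) (w : f ≫ p = 0), (ShortComplex.mk f p w).ShortExact)
    (hg : Q (sum2.{w} g)) (hg' : Q (sum2.{w} fun m n => g (m + 1) n)) (he : Q (sum2.{w} e))
    (h0 : Q (sum1.{w} (g 0))) : KZero.clSub Q (sum1.{w} (g 0)) = KZero.clSub Q (sum2.{w} e) := by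
  choose f p w hS using hse
  obtain ⟨a, b, wab, hab⟩ := exists_shortExact_shift.{w} g
  have h1 := K0Cat.clSub_ses (P := Q) _ hab hg' hg h0
  have h2 := K0Cat.clSub_ses (P := Q) _ (shortExact_sigma.{w} (fun q : ULift.{w} (ℕ × ℕ) =>
    ShortComplex.mk (f q.down.1 q.down.2) (p q.down.1 q.down.2) (w q.down.1 q.down.2))
    fun q => hS q.down.1 q.down.2) hg' hg he
  exact add_left_cancel (h1.symm.trans h2)

end Sigma

/-- A decreasing filtration starting with the whole object. -/
structure Fil (B : A) where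
  /-- The steps. -/
  obj : ℕ → A
  /-- The inclusions. -/
  ι : ∀ n, obj n ⟶ B
  /-- The transition maps. -/
  le : ∀ n, obj (n + 1) ⟶ obj n
  fac : ∀ n, le n ≫ ι n = ι (n + 1)
  mono : ∀ n, Mono (ι n)
  iso : IsIso (ι 0)

attribute [instance] Fil.mono Fil.iso

attribute [reassoc (attr := simp)] Fil.fac

namespace Fil

variable {B : A} (F G : Fil B)

instance (n : ℕ) : Mono (F.le n) := by
  haveI : Mono (F.le n ≫ F.ι n) := by rw [F.fac]; infer_instance
  exact mono_of_mono _ (F.ι n)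

/-- The graded pieces. -/
noncomputable abbrev gr (n : ℕ) : A := cokernel (F.le n)

/-- The intersections of two filtrations. -/
noncomputable abbrev inter (m n : ℕ) : A := pullback (F.ι m) (G.ι n)

noncomputable def u (m n : ℕ) : inter F G (m + 1) n ⟶ inter F G m n :=
  pullback.lift (pullback.fst _ _ ≫ F.le m) (pullback.snd _ _) (by simp [pullback.condition])

noncomputable def v (m n : ℕ) : inter F G m (n + 1) ⟶ inter F G m n :=
  pullback.lift (pullback.fst _ _) (pullback.snd _ _ ≫ G.le n) (by simp [pullback.condition])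

@[reassoc (attr := simp)] theorem u_fst (m n : ℕ) : u F G m n ≫ pullback.fst _ _ = pullback.fst _ _ ≫ F.le m :=
  pullback.lift_fst _ _ _

@[reassoc (attr := simp)] theorem u_snd (m n : ℕ) : u F G m n ≫ pullback.snd _ _ = pullback.snd _ _ :=
  pullback.lift_snd _ _ _

@[reassoc (attr := simp)] theorem v_fst (m n : ℕ) : v F G m n ≫ pullback.fst _ _ = pullback.fst _ _ :=
  pullback.lift_fst _ _ _

@[reassoc (attr := simp)] theorem v_snd (m n : ℕ) : v F G m n ≫ pullback.snd _ _ = pullback.snd _ _ ≫ G.le n :=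
  pullback.lift_snd _ _ _

theorem isPullback_uv (m n : ℕ) :
    IsPullback (v F G (m + 1) n) (u F G m (n + 1)) (u F G m n) (v F G m n) := by
  have w : v F G (m + 1) n ≫ u F G m n = u F G m (n + 1) ≫ v F G m n := by
    apply pullback.hom_ext <;> simp
  refine IsPullback.of_isLimit' ⟨w⟩ (PullbackCone.IsLimit.mk _
    (fun s => pullback.lift (s.fst ≫ pullback.fst _ _) (s.snd ≫ pullback.snd _ _) ?_) (fun s => ?_) (fun s => ?_)
    fun s l h1 h2 => ?_)
  · have h := congrArg (· ≫ pullback.fst _ _ ≫ F.ι m) s.condition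
    simp [pullback.condition] at h
    simpa [pullback.condition] using h
  · apply pullback.hom_ext
    · simp [pullback.lift_fst]
    · have h := congrArg (· ≫ pullback.snd _ _) s.condition
      simp at h
      simp [h, pullback.lift_snd_assoc]
  · apply pullback.hom_ext
    · have h := congrArg (· ≫ pullback.fst _ _) s.condition
      simp at h
      simp [h, pullback.lift_fst_assoc]
    · simp [pullback.lift_snd]
  · apply pullback.hom_ext
    · simp [← h1, pullback.lift_fst]
    · simp [← h2, pullback.lift_snd]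

/-- The square comparing the steps of `G` and of its trace on `F.obj m`. -/
theorem isPullback_snd (m n : ℕ) :
    IsPullback (v F G m n) (pullback.snd _ _) (pullback.snd _ _) (G.le n) := by
  have h : v F G m n ≫ pullback.fst _ _ = pullback.fst _ _ := v_fst F G m n
  refine IsPullback.of_right ?_ (v_snd F G m n) (IsPullback.of_hasPullback (F.ι m) (G.ι n))
  rw [h, G.fac]
  exact IsPullback.of_hasPullback _ _

/-- The square comparing the steps of `F` and of its trace on `G.obj n`. -/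
theorem isPullback_fst (m n : ℕ) :
    IsPullback (u F G m n) (pullback.fst _ _) (pullback.fst _ _) (F.le m) := by
  have h : u F G m n ≫ pullback.snd _ _ = pullback.snd _ _ := u_snd F G m n
  refine IsPullback.of_right ?_ (u_fst F G m n) (IsPullback.of_hasPullback (F.ι m) (G.ι n)).flip
  rw [h, F.fac]
  exact (IsPullback.of_hasPullback _ _).flip

variable [HasCoproducts.{w} A] [AB4OfSize.{w} A] {P Q : ObjectProperty A}

/-- Both filtrations give the class of the common refinement. -/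
theorem cl_gr_eq (hiso : ∀ {X Y : A}, (X ≅ Y) → Q X → Q Y)
    (hcoker : ∀ {X Y : A} (f : X ⟶ Y), P X → P Y → P (cokernel f))
    (hsub : ∀ {X Y : A} (f : X ⟶ Y) [Mono f], P X → Q Y → Q X)
    (hquot : ∀ {X Y : A} (f : X ⟶ Y) [Epi f], P Y → Q X → Q Y)
    (hle : ∀ X, Q X → P X)
    (hK : ∀ m n, P (inter F G m n))
    (hF : ∀ m, Q (F.gr m)) (hG : ∀ n, Q (G.gr n))
    (h2 : ∀ T : ℕ → ℕ → A, (∀ m n, Q (T m n)) →
      (∀ m n, ∃ (Z : A) (a : Z ⟶ F.obj m) (b : Z ⟶ G.obj n) (p : Z ⟶ T m n), Mono a ∧ Mono b ∧ Epi p) →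
      Q (sum2.{w} T))
    (h1F : Q (sum1.{w} F.gr)) (h1G : Q (sum1.{w} G.gr)) :
    KZero.clSub Q (sum1.{w} F.gr) = KZero.clSub Q (sum1.{w} G.gr) := by
  let a : ℕ → ℕ → A := fun m n => cokernel (v F G m n)
  let d : ℕ → ℕ → A := fun n m => cokernel (u F G m n)
  let π : ∀ m n, inter F G m n ⟶ cokernel (biprod.desc (u F G m n) (v F G m n)) := fun m n => cokernel.π _
  let e : ℕ → ℕ → A := fun m n => cokernel (biprod.desc (u F G m n) (v F G m n))
  have hu : ∀ m n, u F G m n ≫ π m n = 0 := fun m n => by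
    show u F G m n ≫ cokernel.π _ = 0
    conv_lhs => arg 1; rw [← biprod.inl_desc (u F G m n) (v F G m n)]
    rw [Category.assoc, cokernel.condition, comp_zero]
  have hv : ∀ m n, v F G m n ≫ π m n = 0 := fun m n => by
    show v F G m n ≫ cokernel.π _ = 0
    conv_lhs => arg 1; rw [← biprod.inr_desc (u F G m n) (v F G m n)]
    rw [Category.assoc, cokernel.condition, comp_zero]
  have huniv : ∀ m n {T : A} (k : inter F G m n ⟶ T), u F G m n ≫ k = 0 → v F G m n ≫ k = 0 →
      ∃ l, π m n ≫ l = k := fun m n T k h1 h2 =>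
    ⟨cokernel.desc _ k (by apply biprod.hom_ext' <;> simp [h1, h2]), cokernel.π_desc _ _ _⟩
  have hsea : ∀ m n, ∃ (f : a (m + 1) n ⟶ a m n) (p : a m n ⟶ e m n) (w : f ≫ p = 0),
      (ShortComplex.mk f p w).ShortExact := fun m n =>
    ⟨_, _, _, shortExact_cokernel_square (isPullback_uv F G m n) (π m n) (hu m n) (hv m n) (huniv m n)⟩
  have hsed : ∀ n m, ∃ (f : d (n + 1) m ⟶ d n m) (p : d n m ⟶ e m n) (w : f ≫ p = 0),
      (ShortComplex.mk f p w).ShortExact := fun n m =>
    ⟨_, _, _, shortExact_cokernel_square (isPullback_uv F G m n).flip (π m n) (hv m n) (hu m n)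
      fun k h1 h2 => huniv m n k h2 h1⟩
  have hQa : ∀ m n, Q (a m n) := fun m n => by
    haveI := Abelian.mono_cokernel_map_of_isPullback (isPullback_snd F G m n)
    exact hsub (cokernel.map _ _ _ _ (isPullback_snd F G m n).w) (hcoker _ (hK _ _) (hK _ _)) (hG n)
  have hQd : ∀ n m, Q (d n m) := fun n m => by
    haveI := Abelian.mono_cokernel_map_of_isPullback (isPullback_fst F G m n)
    exact hsub (cokernel.map _ _ _ _ (isPullback_fst F G m n).w) (hcoker _ (hK _ _) (hK _ _)) (hF m)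
  have hQe : ∀ m n, Q (e m n) := fun m n => by
    obtain ⟨f, p, w, h⟩ := hsea m n
    haveI := h.epi_g
    let i : cokernel f ≅ e m n := IsColimit.coconePointUniqueUpToIso (cokernelIsCokernel f) h.gIsCokernel
    refine hiso i ?_
    exact hquot (cokernel.π f) (hcoker f (hle _ (hQa _ _)) (hle _ (hQa _ _))) (hQa m n)
  have hrow : ∀ n, Q (G.gr n) → Nonempty (a 0 n ≅ G.gr n) := fun n _ => by
    haveI : IsIso (pullback.snd (F.ι 0) (G.ι n)) := inferInstance
    haveI : IsIso (pullback.snd (F.ι 0) (G.ι (n + 1))) := inferInstance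
    exact ⟨cokernel.mapIso _ _ (asIso (pullback.snd (F.ι 0) (G.ι (n + 1)))) (asIso (pullback.snd (F.ι 0) (G.ι n)))
      (v_snd F G 0 n)⟩
  have hcol : ∀ m, Nonempty (d 0 m ≅ F.gr m) := fun m => by
    haveI : IsIso (pullback.fst (F.ι m) (G.ι 0)) := inferInstance
    haveI : IsIso (pullback.fst (F.ι (m + 1)) (G.ι 0)) := inferInstance
    exact ⟨cokernel.mapIso _ _ (asIso (pullback.fst (F.ι (m + 1)) (G.ι 0))) (asIso (pullback.fst (F.ι m) (G.ι 0)))
      (u_fst F G m 0)⟩
  let eG : sum1.{w} (a 0) ≅ sum1.{w} G.gr := Limits.Sigma.mapIso fun n => (hrow n.down (hG _)).some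
  let eF : sum1.{w} (d 0) ≅ sum1.{w} F.gr := Limits.Sigma.mapIso fun m => (hcol m.down).some
  let σ : ∀ T : ℕ → ℕ → A, sum2.{w} T ≅ sum2.{w} (fun n m => T m n) := fun T =>
    Limits.Sigma.whiskerEquiv (f := fun p : ULift.{w} (ℕ × ℕ) => T p.down.1 p.down.2)
      (g := fun p : ULift.{w} (ℕ × ℕ) => T p.down.2 p.down.1)
      (Equiv.ulift.trans ((Equiv.prodComm ℕ ℕ).trans Equiv.ulift.symm)) fun p => Iso.refl _
  have qa : Q (sum2.{w} a) := h2 a hQa fun m n =>
    ⟨_, pullback.fst _ _, pullback.snd _ _, cokernel.π _, inferInstance, inferInstance, inferInstanceAs (Epi (cokernel.π _))⟩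
  have qa' : Q (sum2.{w} fun m n => a (m + 1) n) := h2 _ (fun m n => hQa _ _) fun m n =>
    ⟨inter F G (m + 1) n, pullback.fst _ _ ≫ F.le m, pullback.snd _ _, cokernel.π _, mono_comp _ _, inferInstance,
      inferInstanceAs (Epi (cokernel.π _))⟩
  have qe : Q (sum2.{w} e) := h2 _ hQe fun m n =>
    ⟨_, pullback.fst _ _, pullback.snd _ _, π m n, inferInstance, inferInstance, inferInstanceAs (Epi (cokernel.π _))⟩
  have qd : Q (sum2.{w} d) := hiso (σ fun m n => d n m) (h2 _ (fun m n => hQd n m) fun m n =>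
    ⟨_, pullback.fst _ _, pullback.snd _ _, cokernel.π _, inferInstance, inferInstance, inferInstanceAs (Epi (cokernel.π _))⟩)
  have qd' : Q (sum2.{w} fun n m => d (n + 1) m) := hiso (σ fun m n => d (n + 1) m)
    (h2 _ (fun m n => hQd _ _) fun m n => ⟨inter F G m (n + 1), pullback.fst _ _, pullback.snd _ _ ≫ G.le n,
      cokernel.π _, inferInstance, mono_comp _ _, inferInstanceAs (Epi (cokernel.π _))⟩)
  have q0a : Q (sum1.{w} (a 0)) := hiso eG.symm h1G
  have q0d : Q (sum1.{w} (d 0)) := hiso eF.symm h1F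
  have k1 := cl_swindle.{w} (Q := Q) a e hsea qa qa' qe q0a
  have k2 := cl_swindle.{w} (Q := Q) d (fun n m => e m n) hsed qd qd' (hiso (σ e) qe) q0d
  have hcl : ∀ {X Y : A}, (X ≅ Y) → Q X → KZero.clSub Q X = KZero.clSub Q Y := fun {X Y} i hX =>
    clSub_iso i hX (hiso i hX) (hquot (cokernel.π i.hom) (hcoker i.hom (hle _ hX) (hle _ (hiso i hX))) (hiso i hX))
  rw [← hcl eF q0d, ← hcl eG q0a, k1, k2]
  exact (hcl (σ e) qe).symm

end Fil

namespace Fil

variable {S : ShortComplex A} (hS : S.ShortExact) (F : Fil S.X₂)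

/-- The filtration induced on the subobject. -/
noncomputable def pre [Mono S.f] : Fil S.X₁ where
  obj n := pullback S.f (F.ι n)
  ι n := pullback.fst _ _
  le n := pullback.lift (pullback.fst _ _) (pullback.snd _ _ ≫ F.le n) (by simp [pullback.condition])
  fac n := pullback.lift_fst _ _ _
  mono n := inferInstance
  iso := inferInstance

/-- The filtration induced on the quotient. -/
noncomputable def img [Epi S.g] : Fil S.X₃ where
  obj n := Abelian.image (F.ι n ≫ S.g)
  ι n := Abelian.image.ι _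
  le n := kernel.lift _ (Abelian.image.ι (F.ι (n + 1) ≫ S.g)) (by
    rw [← cancel_epi (Abelian.factorThruImage (F.ι (n + 1) ≫ S.g)), ← Category.assoc, Abelian.image.fac, comp_zero,
      ← F.fac n, Category.assoc, Category.assoc, ← Category.assoc (F.ι n) S.g, cokernel.condition, comp_zero])
  fac n := kernel.lift_ι _ _ _
  mono n := inferInstance
  iso := by
    haveI : Epi (Abelian.factorThruImage (F.ι 0 ≫ S.g) ≫ Abelian.image.ι (F.ι 0 ≫ S.g)) := by
      rw [Abelian.image.fac]; infer_instance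
    haveI : Epi (Abelian.image.ι (F.ι 0 ≫ S.g)) := epi_of_epi (Abelian.factorThruImage _) _
    exact isIso_of_mono_of_epi _

include hS in
/-- The graded pieces of the induced filtrations. -/
theorem exists_shortExact_gr [Mono S.f] [Epi S.g] (n : ℕ) :
    ∃ (f : (F.pre).gr n ⟶ F.gr n) (g : F.gr n ⟶ (F.img).gr n) (w : f ≫ g = 0),
      (ShortComplex.mk f g w).ShortExact := by
  have sq : IsPullback ((F.pre).le n) (pullback.snd _ _) (pullback.snd _ _) (F.le n) := by
    refine IsPullback.of_right ?_ (pullback.lift_snd _ _ _) (IsPullback.of_hasPullback S.f (F.ι n))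
    show IsPullback ((F.pre).le n ≫ (F.pre).ι n) _ _ _
    rw [(F.pre).fac, F.fac]
    exact IsPullback.of_hasPullback S.f (F.ι (n + 1))
  let p : ∀ m, F.obj m ⟶ (F.img).obj m := fun m => Abelian.factorThruImage (F.ι m ≫ S.g)
  have hp : ∀ m, p m ≫ (F.img).ι m = F.ι m ≫ S.g := fun m => Abelian.image.fac _
  haveI : Epi (p n) := inferInstanceAs (Epi (Abelian.factorThruImage _))
  haveI : Epi (p (n + 1)) := inferInstanceAs (Epi (Abelian.factorThruImage _))
  have hle : F.le n ≫ p n = p (n + 1) ≫ (F.img).le n := by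
    rw [← cancel_mono ((F.img).ι n)]
    simp [hp]
  refine ⟨_, _, _, shortExact_cokernel_square sq (p n ≫ cokernel.π ((F.img).le n)) ?_ ?_ fun {T} k h1 h2 => ?_⟩
  · have h0 : pullback.snd S.f (F.ι n) ≫ p n = 0 := by
      rw [← cancel_mono ((F.img).ι n), Category.assoc, hp, zero_comp, ← pullback.condition_assoc, S.zero, comp_zero]
    exact (Category.assoc _ _ _).symm.trans ((congrArg (· ≫ _) h0).trans zero_comp)
  · rw [reassoc_of% hle, cokernel.condition, comp_zero]
  · have hker : kernel.ι (p n) ≫ k = 0 := by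
      have hj : (kernel.ι (p n) ≫ F.ι n) ≫ S.g = 0 := by rw [Category.assoc, ← hp, kernel.condition_assoc, zero_comp]
      haveI := hS.mono_f
      let l : kernel (p n) ⟶ pullback S.f (F.ι n) :=
        pullback.lift (hS.exact.lift _ hj) (kernel.ι (p n)) (hS.exact.lift_f _ hj)
      rw [← pullback.lift_snd (hS.exact.lift _ hj) (kernel.ι (p n)) (hS.exact.lift_f _ hj), Category.assoc]
      exact (congrArg (l ≫ ·) h1).trans comp_zero
    let k₁ := Abelian.epiDesc (p n) k hker
    have hk₁ : p n ≫ k₁ = k := Abelian.comp_epiDesc _ _ _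
    refine ⟨cokernel.desc _ k₁ ?_, by rw [Category.assoc, cokernel.π_desc, hk₁]⟩
    rw [← cancel_epi (p (n + 1)), ← reassoc_of% hle, hk₁, h2, comp_zero]

end Fil

end Groth.Agent.KSwindle
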